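import Groth.Agent.FlatMor12.RegularExtend
import Groth.Prelude.Def_GmAct

/-! The torus orbit of `1` is schematically dominant in the affine line, universally; consequences
for equivariant families over the affine line. -/

set_option autoImplicit false
set_option linter.style.haveILetI false
set_option backward.isDefEq.respectTransparency false
set_option backward.isDefEq.respectTransparency.types false

universe u

open CategoryTheory CategoryTheory.Limits AlgebraicGeometry MonoidalCategory CartesianMonoidalCategory Opposite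
open MonObj GrpObj
open scoped Polynomial TensorProduct

namespace Groth.Agent.LineEq26

variable {R : Type u} [CommRing R]

noncomputable local instance (S : Type u) [CommRing S] : (algSpec (CommRingCat.of S)).Braided := braidedAlgSpec

/-- The inclusion `R[x] → R[z, z⁻¹]`. -/
noncomputable abbrev jAlg : R[X] →ₐ[R] ThetaS.Lau R := ThetaS.linePt (ThetaS.zPow R 1)

/-- The inclusion `G_m → A¹`. -/
noncomputable abbrev jMor : ThetaS.Gm R ⟶ ThetaS.Line R := CoactBr.pt (jAlg (R := R))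

theorem exists_retraction :
    ∃ g : ThetaS.Lau R →ₗ[R] R[X], g.comp (jAlg (R := R)).toLinearMap = LinearMap.id := by
  let g : ThetaS.Lau R →ₗ[R] R[X] :=
    (MonoidAlgebra.basis (Multiplicative ℤ) R).constr R
      (fun i => (Polynomial.X : R[X]) ^ (Multiplicative.toAdd i).toNat)
  refine ⟨g, (Polynomial.basisMonomials R).ext fun n => ?_⟩
  have e : jAlg (R := R) (Polynomial.monomial n (1 : R)) =
      MonoidAlgebra.single (Multiplicative.ofAdd (n : ℤ)) 1 := by
    rw [jAlg, ThetaS.linePt, Polynomial.aeval_monomial, map_one, _root_.one_mul, ThetaS.zPow,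
      MonoidAlgebra.single_pow, one_pow, ← ofAdd_nsmul]
    simp
  rw [Polynomial.coe_basisMonomials, LinearMap.comp_apply, AlgHom.toLinearMap_apply, e, LinearMap.id_apply]
  have hb : MonoidAlgebra.single (Multiplicative.ofAdd (n : ℤ)) (1 : R) =
      MonoidAlgebra.basis (Multiplicative ℤ) R (Multiplicative.ofAdd (n : ℤ)) := by simp
  rw [hb, Module.Basis.constr_basis]
  simp [Polynomial.X_pow_eq_monomial]

theorem map_jAlg_injective (B : Type u) [CommRing B] [Algebra R B] :
    Function.Injective (Algebra.TensorProduct.map (jAlg (R := R)) (AlgHom.id R B)) := by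
  obtain ⟨g, hg⟩ := exists_retraction (R := R)
  refine Function.LeftInverse.injective (g := TensorProduct.map g LinearMap.id) fun x => ?_
  induction x using TensorProduct.induction_on with
  | zero => simp
  | tmul a b =>
    rw [Algebra.TensorProduct.map_tmul, TensorProduct.map_tmul]
    congr 1
    exact LinearMap.congr_fun hg a
  | add a b ha hb => simp [ha, hb]

theorem isSchemeTheoreticallyDominant_specMap {A B : CommRingCat.{u}} (φ : A ⟶ B)
    (h : Function.Injective φ.hom) : IsSchemeTheoreticallyDominant (Spec.map φ) := by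
  constructor
  rw [Scheme.ker_of_isAffine]
  have hinj : Function.Injective (Spec.map φ).appTop := by
    intro a b hab
    have hn := Scheme.ΓSpecIso_naturality φ
    have ea : (Scheme.ΓSpecIso _).hom ((Spec.map φ).appTop a) = φ ((Scheme.ΓSpecIso _).hom a) :=
      congrArg (fun t => t a) hn
    have eb : (Scheme.ΓSpecIso _).hom ((Spec.map φ).appTop b) = φ ((Scheme.ΓSpecIso _).hom b) :=
      congrArg (fun t => t b) hn
    refine (ConcreteCategory.bijective_of_isIso (Scheme.ΓSpecIso A).hom).1 (h ?_)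
    exact ea.symm.trans ((congrArg (Scheme.ΓSpecIso _).hom hab).trans eb)
  rw [(RingHom.injective_iff_ker_eq_bot _).1 hinj]
  exact Scheme.IdealSheafData.ext_of_isAffine (by simp)

/-- Affine case. -/
theorem ext_sp (B : Type u) [CommRing B] [Algebra R B] {X : Over (Spec (CommRingCat.of R))}
    [IsSeparated X.hom] {u v : ThetaS.Line R ⊗ CoactBr.sp R B ⟶ X}
    (h : (jMor ▷ CoactBr.sp R B) ≫ u = (jMor ▷ CoactBr.sp R B) ≫ v) : u = v := by
  let μ' := Functor.LaxMonoidal.μ (algSpec (CommRingCat.of R)) (op (.of R R[X])) (op (.of R B))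
  let ν : CoactBr.sp R (R[X] ⊗[R] B) ⟶ ThetaS.Line R ⊗ CoactBr.sp R B :=
    lift (CoactBr.pt Algebra.TensorProduct.includeLeft) (CoactBr.pt Algebra.TensorProduct.includeRight)
  have hν : ν ≫ μ' = 𝟙 _ := by
    refine (CoactBr.lift_pt_pt _ _).trans ?_
    rw [show (Algebra.TensorProduct.lift Algebra.TensorProduct.includeLeft Algebra.TensorProduct.includeRight
      fun _ _ => .all _ _) = AlgHom.id R (R[X] ⊗[R] B) from by ext <;> simp, CoactBr.pt_id]
  haveI : IsIso μ' := inferInstance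
  haveI : Epi ν := by
    rw [show ν = inv μ' from IsIso.eq_inv_of_inv_hom_id hν]
    infer_instance
  rw [← cancel_epi ν]
  let Φ := Algebra.TensorProduct.map (jAlg (R := R)) (AlgHom.id R B)
  have hΦ : CoactBr.pt Φ ≫ ν =
      lift (CoactBr.pt (Algebra.TensorProduct.includeLeft : ThetaS.Lau R →ₐ[R] ThetaS.Lau R ⊗[R] B))
        (CoactBr.pt Algebra.TensorProduct.includeRight) ≫ (jMor ▷ CoactBr.sp R B) := by
    rw [lift_whiskerRight, comp_lift, ← CoactBr.pt_comp, ← CoactBr.pt_comp]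
    rw [show Φ.comp Algebra.TensorProduct.includeLeft =
        (Algebra.TensorProduct.includeLeft : ThetaS.Lau R →ₐ[R] ThetaS.Lau R ⊗[R] B).comp jAlg from by
          ext; simp [Φ],
      show Φ.comp Algebra.TensorProduct.includeRight = Algebra.TensorProduct.includeRight from by
          ext; simp [Φ]]
    rw [CoactBr.pt_comp]
  haveI : IsSchemeTheoreticallyDominant (CoactBr.pt Φ).left :=
    isSchemeTheoreticallyDominant_specMap _ (map_jAlg_injective B)
  refine Over.OverMorphism.ext ?_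
  refine FlatMor12.RegularExtend.ext_of_isSchemeTheoreticallyDominant X.hom ?_ (CoactBr.pt Φ).left ?_
  · rw [Over.w, Over.w]
  · rw [← Over.comp_left, ← Over.comp_left, ← Category.assoc, ← Category.assoc, hΦ,
      Category.assoc, Category.assoc, h]

/-- `G_m × T → A¹ × T` is schematically dominant: morphisms into separated objects agree. -/
theorem ext_line {Z X : Over (Spec (CommRingCat.of R))} [IsSeparated X.hom]
    {u v : ThetaS.Line R ⊗ Z ⟶ X} (h : (jMor ▷ Z) ≫ u = (jMor ▷ Z) ≫ v) : u = v := by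
  refine Over.OverMorphism.ext ?_
  refine (Scheme.Pullback.openCoverOfRight Z.left.affineCover (ThetaS.Line R).hom Z.hom).hom_ext _ _
    fun i => ?_
  obtain ⟨B, hB⟩ : ∃ B : CommRingCat.{u}, Z.left.affineCover.X i = Spec B := ⟨_, rfl⟩
  revert hB
  have key : ∀ (W : Scheme.{u}) (f : W ⟶ Z.left) (B : CommRingCat.{u}), W = Spec B →
      pullback.map (ThetaS.Line R).hom (f ≫ Z.hom) (ThetaS.Line R).hom Z.hom (𝟙 _) f (𝟙 _) (by simp)
          (Category.comp_id _) ≫ u.left =
        pullback.map (ThetaS.Line R).hom (f ≫ Z.hom) (ThetaS.Line R).hom Z.hom (𝟙 _) f (𝟙 _) (by simp)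
          (Category.comp_id _) ≫ v.left := by
    rintro W f B rfl
    letI : Algebra R B := (Spec.preimage (f ≫ Z.hom)).hom.toAlgebra
    have hf : f ≫ Z.hom = (CoactBr.sp R B).hom := (Spec.map_preimage _).symm
    let e : CoactBr.sp R B ⟶ Z := Over.homMk f hf
    have he : (ThetaS.Line R ◁ e) ≫ u = (ThetaS.Line R ◁ e) ≫ v := by
      refine ext_sp B ?_
      rw [← whisker_exchange_assoc, ← whisker_exchange_assoc, h]
    have he' := congrArg CommaMorphism.left he
    change (ThetaS.Line R ◁ e).left ≫ u.left = (ThetaS.Line R ◁ e).left ≫ v.left at he'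
    rw [Over.whiskerLeft_left] at he'
    have hsplit : pullback.map (ThetaS.Line R).hom (f ≫ Z.hom) (ThetaS.Line R).hom Z.hom (𝟙 _) f (𝟙 _)
        (by simp) (Category.comp_id _) =
      pullback.map (ThetaS.Line R).hom (f ≫ Z.hom) (ThetaS.Line R).hom (CoactBr.sp R B).hom (𝟙 _) (𝟙 _) (𝟙 _)
          (by simp) (by simp [hf]) ≫
        pullback.map (ThetaS.Line R).hom (CoactBr.sp R B).hom (ThetaS.Line R).hom Z.hom (𝟙 _) e.left (𝟙 _)
          (by simp) (by simp) := by
      ext <;> simp [e]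
    rw [hsplit]
    exact (Category.assoc _ _ _).trans ((congrArg _ he').trans (Category.assoc _ _ _).symm)
  exact fun hB => key _ _ _ hB

theorem lift_jMor_lineAction {W : Over (Spec (CommRingCat.of R))} (g k : W ⟶ ThetaS.Gm R) :
    lift g (k ≫ jMor) ≫ (ThetaS.lineAction R).act = (g * k) ≫ jMor := by
  let G := ThetaS.Gm R
  have key : (G ◁ jMor) ≫ (ThetaS.lineAction R).act = μ[G] ≫ jMor := by
    let K := ThetaS.Lau R ⊗[R] ThetaS.Lau R
    let l₁ : ThetaS.Lau R →ₐ[R] K := Algebra.TensorProduct.includeLeft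
    let l₂ : ThetaS.Lau R →ₐ[R] K := Algebra.TensorProduct.includeRight
    let μ' := Functor.LaxMonoidal.μ (algSpec (CommRingCat.of R)) (op (.of R (ThetaS.Lau R))) (op (.of R (ThetaS.Lau R)))
    let ν : CoactBr.sp R K ⟶ G ⊗ G := lift (CoactBr.pt l₁) (CoactBr.pt l₂)
    have hν : ν ≫ μ' = 𝟙 _ := by
      refine (CoactBr.lift_pt_pt _ _).trans ?_
      rw [show (Algebra.TensorProduct.lift l₁ l₂ fun _ _ => .all _ _) = AlgHom.id R K from by
        ext <;> simp [l₁, l₂] <;> rfl, CoactBr.pt_id]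
    haveI : IsIso μ' := inferInstance
    haveI : Epi ν := by
      rw [show ν = inv μ' from IsIso.eq_inv_of_inv_hom_id hν]
      infer_instance
    rw [← cancel_epi ν]
    rw [lift_whiskerLeft_assoc, ← CoactBr.pt_comp,
      show (l₂.comp (jAlg (R := R))) = ThetaS.linePt (l₂ (ThetaS.zPow R 1)) from
        Polynomial.algHom_ext (by simp [jAlg]), ThetaS.lineAction_pt, ← Category.assoc, ← Hom.mul_def]
    rw [CoactBr.pt_mul_pt, ← CoactBr.pt_comp]
    congr 1
    refine Polynomial.algHom_ext ?_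
    simp [jAlg, l₁, l₂, ThetaS.zPow, Bialgebra.comulAlgHom_apply]
  rw [Hom.mul_def, Category.assoc, ← key, lift_whiskerLeft_assoc]

theorem act_assoc {S : Scheme.{u}} {G X : Over S} [GrpObj G]
    (a : AlgGrp.Action G X) {W : Over S} (g k : W ⟶ G) (x : W ⟶ X) :
    lift g (lift k x ≫ a.act) ≫ a.act = lift (g * k) x ≫ a.act := by
  rw [Hom.mul_def, ← lift_whiskerRight_assoc, a.mul_act, lift_lift_associator_hom_assoc, lift_whiskerLeft_assoc]

variable {X T : Over (Spec (CommRingCat.of R))} (a : AlgGrp.Action (ThetaS.Gm R) X)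

/-- Restriction of an equivariant family to `G_m × T` is the orbit of its value at `1`. -/
theorem jMor_comp_of_equivariant (u : ThetaS.Line R ⊗ T ⟶ X)
    (hu : (α_ (ThetaS.Gm R) (ThetaS.Line R) T).inv ≫ ((ThetaS.lineAction R).act ▷ T) ≫ u =
      (ThetaS.Gm R ◁ u) ≫ a.act) :
    (jMor ▷ T) ≫ u = lift (fst _ _) (snd _ _ ≫ lift ((1 : T ⟶ ThetaS.Gm R) ≫ jMor) (𝟙 T) ≫ u) ≫ a.act := by
  have h := congrArg (fun t => lift (fst (ThetaS.Gm R) T)
    (snd (ThetaS.Gm R) T ≫ lift ((1 : T ⟶ ThetaS.Gm R) ≫ jMor) (𝟙 T)) ≫ t) hu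
  rw [lift_whiskerLeft_assoc, Category.assoc] at h
  rw [← h, comp_lift, lift_lift_associator_inv_assoc, lift_whiskerRight_assoc, ← Category.assoc,
    lift_jMor_lineAction, comp_one, _root_.mul_one, Category.comp_id]
  congr 1

theorem unique_equivariant [IsSeparated X.hom] (u v : ThetaS.Line R ⊗ T ⟶ X)
    (hu : (α_ (ThetaS.Gm R) (ThetaS.Line R) T).inv ≫ ((ThetaS.lineAction R).act ▷ T) ≫ u =
      (ThetaS.Gm R ◁ u) ≫ a.act)
    (hv : (α_ (ThetaS.Gm R) (ThetaS.Line R) T).inv ≫ ((ThetaS.lineAction R).act ▷ T) ≫ v =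
      (ThetaS.Gm R ◁ v) ≫ a.act)
    (h : lift ((1 : T ⟶ ThetaS.Gm R) ≫ jMor) (𝟙 T) ≫ u = lift ((1 : T ⟶ ThetaS.Gm R) ≫ jMor) (𝟙 T) ≫ v) :
    u = v := by
  refine ext_line ?_
  rw [jMor_comp_of_equivariant a u hu, jMor_comp_of_equivariant a v hv, h]

theorem equivariant_of_orbit [IsSeparated X.hom] (x : T ⟶ X) (u : ThetaS.Line R ⊗ T ⟶ X)
    (hu : (jMor ▷ T) ≫ u = (ThetaS.Gm R ◁ x) ≫ a.act) :
    (α_ (ThetaS.Gm R) (ThetaS.Line R) T).inv ≫ ((ThetaS.lineAction R).act ▷ T) ≫ u =
      (ThetaS.Gm R ◁ u) ≫ a.act := by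
  let G := ThetaS.Gm R
  -- move the line to the first factor
  let σ : ThetaS.Line R ⊗ (G ⊗ T) ⟶ G ⊗ (ThetaS.Line R ⊗ T) :=
    lift (snd _ _ ≫ fst _ _) (lift (fst _ _) (snd _ _ ≫ snd _ _))
  let σ' : G ⊗ (ThetaS.Line R ⊗ T) ⟶ ThetaS.Line R ⊗ (G ⊗ T) :=
    lift (snd _ _ ≫ fst _ _) (lift (fst _ _) (snd _ _ ≫ snd _ _))
  have hσ : σ' ≫ σ = 𝟙 _ := by
    refine hom_ext _ _ (by simp [σ, σ']) (hom_ext _ _ (by simp [σ, σ']) (by simp [σ, σ']))
  haveI : IsSplitEpi σ := ⟨⟨σ', hσ⟩⟩
  rw [← cancel_epi σ]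
  refine ext_line ?_
  -- coordinates on `G_m × (G_m × T)`
  let k : G ⊗ (G ⊗ T) ⟶ G := fst _ _
  let g : G ⊗ (G ⊗ T) ⟶ G := snd _ _ ≫ fst _ _
  let t : G ⊗ (G ⊗ T) ⟶ T := snd _ _ ≫ snd _ _
  have hσc : (jMor ▷ (G ⊗ T)) ≫ σ = lift g (lift (k ≫ jMor) t) := by
    refine hom_ext _ _ (by simp [σ, g] <;> rfl) (hom_ext _ _ (by simp [σ, k] <;> rfl) (by simp [σ, t] <;> rfl))
  have hu' : ∀ {W : Over (Spec (CommRingCat.of R))} (p : W ⟶ G) (q : W ⟶ T),
      lift (p ≫ jMor) q ≫ u = lift p (q ≫ x) ≫ a.act := by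
    intro W p q
    rw [← lift_whiskerRight_assoc, hu, lift_whiskerLeft_assoc]
  rw [← Category.assoc, ← Category.assoc (jMor ▷ (G ⊗ T)), hσc, lift_lift_associator_inv_assoc,
    lift_whiskerRight_assoc, lift_jMor_lineAction, hu', lift_whiskerLeft_assoc, hu', act_assoc]

end Groth.Agent.LineEq26
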